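import Groth.Agent.Sga2.ESZ
import Groth.Agent.Sga2.EszProj68
import Groth.Agent.Sga5.AmpleFib
import Groth.Agent.Sga5.ProjReg
import Groth.Agent.Ega3B.PullTensor
import Groth.Agent.Ega4dB.DepthReg

/-!
# Vanishing of the cohomology of negative twists on a closed subscheme of projective space

* `K271.PnSubDepth.vanish_iff_depth`: for `i : X → P^N_k` a closed immersion and `F` coherent on `X`,
  `H^j(X, F ⊗ i^*O(-q)) = 0` for all `j ≤ n` and all large `q` iff `depth F_x > n` at all closed points `x` of `X`;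
* `K271.PnSubDepth.depth_self_le_of_flat`: `depth R ≤ depth M` for `M` flat.
-/

set_option autoImplicit false
universe u v
open CategoryTheory CategoryTheory.Limits AlgebraicGeometry Opposite TopologicalSpace

namespace K271.PnSubDepth

open Groth.Agent Groth.Agent.Ega2

theorem depth_self_le_of_flat (R : Type u) [CommRing R] [IsLocalRing R] (M : Type v) [AddCommGroup M]
    [Module R M] [Module.Flat R M] : LocCoh.depth R R ≤ LocCoh.depth R M := by
  unfold LocCoh.depth
  refine ENat.forall_natCast_le_iff_le.mp fun n hn => ?_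
  rw [Ega4dB.DepthReg.le_idealDepth_iff] at hn ⊢
  rcases hn with h | ⟨rs, h1, h2, h3⟩
  · exfalso
    rw [Ideal.smul_top_eq_map] at h
    have h4 : (IsLocalRing.maximalIdeal R) = ⊤ := by
      rw [eq_top_iff]
      intro x _
      have hx : x ∈ ((IsLocalRing.maximalIdeal R).map (algebraMap R R)).restrictScalars R := by
        rw [h]; trivial
      simpa using hx
    exact (IsLocalRing.maximalIdeal.isMaximal R).ne_top h4
  · exact Or.inr ⟨rs, h1, h2,
      ((TensorProduct.rid R M).isWeaklyRegular_congr rs).mp h3.isWeaklyRegular_lTensor⟩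

theorem isFinLocFree_structureModule (X : Scheme.{u}) :
    FlatMod.IsFinLocFree (Coh.structureModule X) := by
  intro x
  refine ⟨⊤, 1, trivial, ⟨?_⟩⟩
  exact (Scheme.Modules.restrictUnitIso _) ≪≫ (coproductUniqueIso (fun _ : Fin 1 => Coh.structureModule _)).symm

variable (k : Type u) [Field k] {N : ℕ} {X : Scheme.{u}} (i : X ⟶ CohB1.ProjSpace N k)

theorem nonempty_pow (m : ℕ) :
    Nonempty (CohB1.tensorPow (Twist.twistProjSpace N k (-1)) m ≅ Twist.twistProjSpace N k (-(m : ℤ))) := by
  obtain ⟨e⟩ := TwistInv.nonempty_tensorPow_iso (VeryAmpleAmple.coveredByOne_poly (n := N) (R := k)) (-1) m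
  have h : (m : ℤ) * (-1) = -(m : ℤ) := by ring
  rw [h] at e
  exact ⟨e⟩

/-- `F ⊗ (i^*O(-1))^m ≅ F ⊗ i^*O(-m)`. -/
theorem nonempty_iso (F : X.Modules) (m : ℕ) :
    Nonempty (CohB1.tensorMod F (CohB1.tensorPow ((Scheme.Modules.pullback i).obj (Twist.twistProjSpace N k (-1))) m) ≅
      CohB1.tensorMod F ((Scheme.Modules.pullback i).obj (Twist.twistProjSpace N k (-(m : ℤ))))) := by
  have hinv := VeryAmpleAmple.isInvertible_twistProjSpace N k (-1)
  obtain ⟨e⟩ := nonempty_pow k (N := N) m
  obtain ⟨e'⟩ := Ega3B.PullTensor.nonempty_pullPowIso i hinv m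
  exact ⟨Tens.mapTIso (Iso.refl F) (e'.symm ≪≫ (Scheme.Modules.pullback i).mapIso e)⟩

theorem isInverseOf_pull : ClSub.IsInverseOf ((Scheme.Modules.pullback i).obj (Twist.twistProjSpace N k 1))
    ((Scheme.Modules.pullback i).obj (Twist.twistProjSpace N k (-1))) := by
  obtain ⟨e⟩ := Sga2.EszProj68.isInverseOf_twist k N
  obtain ⟨u⟩ := Ega3B.PullTensor.nonempty_pullUnitIso i
  exact ⟨(Ega3B.PullTensor.pullTensorIso i (VeryAmpleAmple.isInvertible_twistProjSpace N k 1)
    (VeryAmpleAmple.isInvertible_twistProjSpace N k (-1))).symm ≪≫ (Scheme.Modules.pullback i).mapIso e ≪≫ u⟩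

theorem van_iff (F : X.Modules) (n : ℕ) :
    (∃ q₀ : ℕ, ∀ q : ℕ, q₀ ≤ q → ∀ j : ℕ, j ≤ n → Subsingleton (Coh.HH X (CohB1.tensorMod F
        ((Scheme.Modules.pullback i).obj (Twist.twistProjSpace N k (-(q : ℤ))))) j)) ↔
    Sga2.Conv68.Van ((Scheme.Modules.pullback i).obj (Twist.twistProjSpace N k (-1))) F n := by
  refine exists_congr fun q₀ => forall_congr' fun q => imp_congr_right fun _ =>
    forall_congr' fun j => imp_congr_right fun _ => ?_
  obtain ⟨e⟩ := nonempty_iso k i F q
  exact ⟨fun h => Groth.Agent.Fga.HShift.subsingleton_of_iso e.symm j h,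
    fun h => Groth.Agent.Fga.HShift.subsingleton_of_iso e j h⟩

theorem isNoetherian [IsClosedImmersion i] : IsNoetherian X := by
  have h1 := Sga5.ProjReg.isNoetherian_projSpace N k
  have h2 : IsLocallyNoetherian X := LocallyOfFiniteType.isLocallyNoetherian i
  have h3 : CompactSpace X := QuasiCompact.compactSpace_of_compactSpace i
  exact { }

/-- The lemma of Enriques–Severi–Zariski and its converse on a closed subscheme of projective space. -/
theorem vanish_iff_depth [IsClosedImmersion i] (F : X.Modules) (hF : Coh.IsCoh F) (n : ℕ) :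
    (∃ q₀ : ℕ, ∀ q : ℕ, q₀ ≤ q → ∀ j : ℕ, j ≤ n → Subsingleton (Coh.HH X (CohB1.tensorMod F
        ((Scheme.Modules.pullback i).obj (Twist.twistProjSpace N k (-(q : ℤ))))) j)) ↔
    ∀ x : X, IsClosed ({x} : Set X) →
      (n : ℕ∞) < LocCoh.depth (X.presheaf.stalk x) (F.presheaf.stalk x) := by
  rw [van_iff]
  have hN := isNoetherian k i
  have hp := VarietyB.ProjSpaceProper.isProper_toSpec N k
  let _ : X.Over (Spec (CommRingCat.of k)) := ⟨i ≫ CohB1.ProjSpace.toSpec N k⟩
  have hX : IsProper (X ↘ Spec (CommRingCat.of k)) :=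
    inferInstanceAs (IsProper (i ≫ CohB1.ProjSpace.toSpec N k))
  have hsep : X.IsSeparated := ⟨by
    rw [← terminal.comp_from (i ≫ CohB1.ProjSpace.toSpec N k)]; infer_instance⟩
  have hamp := Sga5.AmpleFib.isAmple_pullback i (VarietyA.AmpleField.isAmple_twistProjSpace N k)
  constructor
  · intro h x hx
    exact Sga2.Conv68.lt_depth_of_van hamp (isInverseOf_pull k i) n F hF h x hx
  · intro h
    exact Sga2.ESZ.esz k X (isInverseOf_pull k i) hamp F hF n h

end K271.PnSubDepth
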