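import Groth.Agent.ProjDual.K271.CMDual
import Groth.Agent.EGA2.K33.CurveDim
import Groth.Agent.Variety.K426.DimKit

/-!
# Vanishing of `Ext^m(F, ω)` and of `H^p(X, F)`

* `K271.ExtDual.subsingleton_ext_iff`: for a perfect form on `Hom_D(O_X, W[n])`, `Ext^m(F, W) = 0` if and only if
  `H^p(X, F) = 0`, `m + p = n`.
* `K271.ExtDual.dim_component`: a scheme of finite type over a field whose local rings at the closed points have
  dimension `n` is equidimensional of dimension `n`.
-/

set_option autoImplicit false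

universe u

open CategoryTheory CategoryTheory.Limits AlgebraicGeometry

attribute [local instance] HasDerivedCategory.standard

namespace K271.ExtDual

open Groth.Agent Groth.Agent.CurvesC Groth.Agent.CurvesC.RepX Groth.Agent.CurvesC.DualLin

variable (k : Type u) [Field k] {X : Scheme.{u}} [X.Over (Spec (CommRingCat.of k))]

theorem subsingleton_dual_iff (V : Type u) [AddCommGroup V] [Module k V] :
    Subsingleton (Module.Dual k V) ↔ Subsingleton V := by
  refine ⟨fun h => subsingleton_of_forall_eq 0 fun v => ?_, fun h => inferInstance⟩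
  rw [← Module.forall_dual_apply_eq_zero_iff k v]
  intro φ
  rw [Subsingleton.elim φ 0, LinearMap.zero_apply]

section

attribute [local instance] LinMod.linearModules

theorem subsingleton_ext_iff {W F : X.Modules} [HasExt.{u} X.Modules] (m p n : ℕ) (h : m + p = n)
    (τ : (P X ⟶ (DCoh.inD X W)⟦(n : ℤ)⟧) →ₗ[k] k) (hF : Coh.IsQCoh F)
    (hτ : ∀ K : DCoh.D X, DCoh.IsQCohD K → Function.Bijective (pairing k X τ K)) :
    Subsingleton (Abelian.Ext F W m) ↔ Subsingleton (Coh.HH X F p) := by
  obtain ⟨E⟩ := K461.DualAbs.dual_equiv_hom k m p n h τ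
    (hτ _ (PerfA.QCohD.isQCohD_shift (PerfA.QCohD.isQCohD_inD F hF) (p : ℤ)))
  rw [Abelian.Ext.homEquiv.subsingleton_congr]
  refine E.toEquiv.subsingleton_congr.trans ?_
  rw [subsingleton_dual_iff]
  exact (HV.equiv k F p).toEquiv.subsingleton_congr

/-- On an equidimensional proper Cohen–Macaulay scheme any pair `(ω, t)` comes from a perfect form. -/
theorem exists_form_of_isPair [IsProper (X ↘ Spec (CommRingCat.of k))] (n : ℕ)
    (hCM : ∀ x : X, LocCoh.IsCohenMacaulayLocalRing (X.presheaf.stalk x))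
    (heq : ∀ Z : Set ↥X, Z ∈ irreducibleComponents ↥X → topologicalKrullDim ↥Z = (n : WithBot ℕ∞))
    {ω : X.Modules} (hω : Coh.IsCoh ω) {t : Coh.HH X ω n →ₗ[k] k} (hp : CMDual.IsPair k n ω t) :
    ∃ τ : (P X ⟶ (DCoh.inD X ω)⟦(n : ℤ)⟧) →ₗ[k] k,
      ∀ K : DCoh.D X, DCoh.IsQCohD K → Function.Bijective (pairing k X τ K) := by
  obtain ⟨W, hW, τ, hτ⟩ := CMDual.exists_form k n hCM heq
  obtain ⟨t', ht'⟩ := CMDual.exists_isPair_of_form k n τ hτ
  obtain ⟨e⟩ := CMDual.nonempty_iso k hW hω ht' hp
  exact K461.DualAbs.exists_form_of_iso k ((shiftFunctor (DCoh.D X) (n : ℤ)).mapIso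
    ((DerivedCategory.singleFunctor X.Modules 0).mapIso e)) τ hτ

end

/-- Components of a scheme of finite type over a field whose local rings at closed points have dimension `n`. -/
theorem dim_component [LocallyOfFiniteType (X ↘ Spec (CommRingCat.of k))] [TopologicalSpace.NoetherianSpace X] {n : ℕ}
    (h : ∀ x : X, IsClosed ({x} : Set X) → ringKrullDim (X.presheaf.stalk x) = n) (Z : Set X)
    (hZ : Z ∈ irreducibleComponents X) : topologicalKrullDim Z = (n : WithBot ℕ∞) := by
  obtain ⟨ξ, hξ⟩ := QuasiSober.sober hZ.1 (isClosed_of_mem_irreducibleComponents Z hZ)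
  have h1 : closure ({ξ} : Set X) = Z := hξ
  subst h1
  rw [K426.DimKit.dim_closure k X ξ, K33.CurveDim.trd_generic k X h ξ hZ]

end K271.ExtDual
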