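import Mathlib.Data.Nat.Choose.Basic
import Mathlib.Data.Nat.Choose.Cast
import Mathlib.Tactic.FieldSimp
import Mathlib.Tactic.Ring
import Mathlib.Data.Rat.Cast.Order
import Mathlib.Algebra.Order.Field.Rat

/-!
# Binomial identities for the Bott formula
-/

set_option autoImplicit false

namespace K271.BottComb

open Nat

/-- `χ(O(t))` on `P^n`. -/
def c (n : ℕ) (t : ℤ) : ℤ :=
  if 0 ≤ t then (Nat.choose (n + t.toNat) n : ℤ) else
    if t ≤ -((n : ℤ) + 1) then (-1) ^ n * (Nat.choose (n + (-((n : ℤ) + 1) - t).toNat) n : ℤ) else 0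

theorem chooseR (a b : ℕ) : ((a + b).choose b : ℚ) = (a + b)! / (a ! * b !) := by
  rw [add_comm a b, Nat.cast_add_choose ℚ, mul_comm]

theorem id_pos' (a b p : ℕ) :
    (a + (b + 1) + p + 1).choose (b + 1 + p + 1) * (b + 1 + p).choose (p + 1) +
      (a + (b + 1) + p + 2).choose (b + 1 + p + 1) * (b + 1 + p).choose p =
    (a + p + 2).choose (p + 1) * (a + p + 1 + (b + 1)).choose (a + p + 1) := by
  have h1 : ((a + (b + 1) + p + 1).choose (b + 1 + p + 1) : ℚ) =
      (a + b + p + 2)! / (a ! * (b + p + 2)!) := by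
    rw [show a + (b + 1) + p + 1 = a + (b + 1 + p + 1) by ring, chooseR]
    congr 2 <;> ring_nf
  have h2 : ((b + 1 + p).choose (p + 1) : ℚ) = (b + p + 1)! / (b ! * (p + 1)!) := by
    rw [show b + 1 + p = b + (p + 1) by ring, chooseR]
    congr 2
  have h3 : ((a + (b + 1) + p + 2).choose (b + 1 + p + 1) : ℚ) =
      (a + b + p + 3)! / ((a + 1)! * (b + p + 2)!) := by
    rw [show a + (b + 1) + p + 2 = (a + 1) + (b + 1 + p + 1) by ring, chooseR]
    congr 2 <;> ring_nf
  have h4 : ((b + 1 + p).choose p : ℚ) = (b + p + 1)! / ((b + 1)! * p !) := by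
    rw [chooseR]
    congr 2
    ring_nf
  have h5 : ((a + p + 2).choose (p + 1) : ℚ) = (a + p + 2)! / ((a + 1)! * (p + 1)!) := by
    rw [show a + p + 2 = (a + 1) + (p + 1) by ring, chooseR]
  have h6 : ((a + p + 1 + (b + 1)).choose (a + p + 1) : ℚ) =
      (a + b + p + 2)! / ((a + p + 1)! * (b + 1)!) := by
    rw [show a + p + 1 + (b + 1) = (b + 1) + (a + p + 1) by ring, chooseR]
    rw [mul_comm ((b + 1)! : ℚ)]
    congr 2
    ring_nf
  have key : (((a + (b + 1) + p + 1).choose (b + 1 + p + 1) * (b + 1 + p).choose (p + 1) +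
      (a + (b + 1) + p + 2).choose (b + 1 + p + 1) * (b + 1 + p).choose p : ℕ) : ℚ) =
    (((a + p + 2).choose (p + 1) * (a + p + 1 + (b + 1)).choose (a + p + 1) : ℕ) : ℚ) := by
    push_cast
    rw [h1, h2, h3, h4, h5, h6]
    have e1 : (a + b + p + 3)! = (a + b + p + 3) * (a + b + p + 2)! := Nat.factorial_succ _
    have e2 : (b + p + 2)! = (b + p + 2) * (b + p + 1)! := Nat.factorial_succ _
    have e3 : (a + p + 2)! = (a + p + 2) * (a + p + 1)! := Nat.factorial_succ _
    rw [e1, e2, e3, Nat.factorial_succ a, Nat.factorial_succ b, Nat.factorial_succ p]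
    have f1 : (a ! : ℚ) ≠ 0 := Nat.cast_ne_zero.2 (Nat.factorial_ne_zero _)
    have f2 : (b ! : ℚ) ≠ 0 := Nat.cast_ne_zero.2 (Nat.factorial_ne_zero _)
    have f3 : (p ! : ℚ) ≠ 0 := Nat.cast_ne_zero.2 (Nat.factorial_ne_zero _)
    have f4 : ((b + p + 1) ! : ℚ) ≠ 0 := Nat.cast_ne_zero.2 (Nat.factorial_ne_zero _)
    have f5 : ((a + p + 1) ! : ℚ) ≠ 0 := Nat.cast_ne_zero.2 (Nat.factorial_ne_zero _)
    have f6 : (b + p + 2 : ℚ) ≠ 0 := by exact_mod_cast (show b + p + 2 ≠ 0 by omega)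
    push_cast
    field_simp
    ring
  exact_mod_cast key

/-- The identity behind the formula for `h^0(Ω^p(d))`. -/
theorem id_pos (n p d : ℕ) (hp : p + 1 ≤ n) (hd : 1 ≤ d) :
    ((d + n - (p + 1)).choose d * (d - 1).choose (p + 1) + (d + n - p).choose d * (d - 1).choose p : ℤ) =
      (n + 1).choose (p + 1) * c n ((d : ℤ) - (p + 1)) := by
  obtain ⟨a, rfl⟩ := Nat.exists_eq_add_of_le' hp
  rcases lt_trichotomy d (p + 1) with h | rfl | h
  · rw [Nat.choose_eq_zero_of_lt (show d - 1 < p + 1 by omega), Nat.choose_eq_zero_of_lt (show d - 1 < p by omega)]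
    unfold c
    rw [if_neg (by omega), if_neg (by push_cast; omega)]
    simp
  · rw [Nat.choose_eq_zero_of_lt (show p + 1 - 1 < p + 1 by omega)]
    unfold c
    rw [if_pos (by push_cast; omega)]
    have e1 : (((p + 1 : ℕ) : ℤ) - (p + 1)).toNat = 0 := by push_cast; simp
    rw [e1, add_zero, Nat.choose_self, Nat.add_sub_cancel, Nat.choose_self]
    have e2 : p + 1 + (a + (p + 1)) - p = a + (p + 1) + 1 := by omega
    rw [e2]
    simp
  · obtain ⟨b, rfl⟩ := Nat.exists_eq_add_of_lt h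
    unfold c
    rw [if_pos (by push_cast; omega)]
    have e1 : (((p + 1 + b + 1 : ℕ) : ℤ) - (p + 1)).toNat = b + 1 := by
      push_cast
      omega
    rw [e1]
    have := id_pos' a b p
    have e2 : p + 1 + b + 1 + (a + (p + 1)) - (p + 1) = a + (b + 1) + p + 1 := by omega
    have e3 : p + 1 + b + 1 + (a + (p + 1)) - p = a + (b + 1) + p + 2 := by omega
    have e4 : p + 1 + b + 1 - 1 = b + 1 + p := by omega
    have e5 : p + 1 + b + 1 = b + 1 + p + 1 := by omega
    have e6 : a + (p + 1) + 1 = a + p + 2 := by omega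
    rw [e2, e3, e4, e5, e6]
    exact_mod_cast this

theorem id_neg' (a g p : ℕ) :
    (a + 1 + g + p + 2).choose (a + 1 + g + 1) * (a + 1 + g).choose a +
      (a + 1 + g + p + 1).choose (a + 1 + g + 1) * (a + 1 + g).choose (a + 1) =
    (a + p + 2).choose (p + 1) * (a + 1 + g + 1 + p).choose (a + p + 1) := by
  have h1 : ((a + 1 + g + p + 2).choose (a + 1 + g + 1) : ℚ) =
      (a + g + p + 3)! / ((p + 1)! * (a + g + 2)!) := by
    rw [show a + 1 + g + p + 2 = (p + 1) + (a + 1 + g + 1) by ring, chooseR]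
    congr 2 <;> ring_nf
  have h2 : ((a + 1 + g).choose a : ℚ) = (a + g + 1)! / ((g + 1)! * a !) := by
    rw [show a + 1 + g = (g + 1) + a by ring, chooseR]
    congr 2
    ring_nf
  have h3 : ((a + 1 + g + p + 1).choose (a + 1 + g + 1) : ℚ) =
      (a + g + p + 2)! / (p ! * (a + g + 2)!) := by
    rw [show a + 1 + g + p + 1 = p + (a + 1 + g + 1) by ring, chooseR]
    congr 2 <;> ring_nf
  have h4 : ((a + 1 + g).choose (a + 1) : ℚ) = (a + g + 1)! / (g ! * (a + 1)!) := by
    rw [show a + 1 + g = g + (a + 1) by ring, chooseR]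
    congr 2
    ring_nf
  have h5 : ((a + p + 2).choose (p + 1) : ℚ) = (a + p + 2)! / ((a + 1)! * (p + 1)!) := by
    rw [show a + p + 2 = (a + 1) + (p + 1) by ring, chooseR]
  have h6 : ((a + 1 + g + 1 + p).choose (a + p + 1) : ℚ) =
      (a + g + p + 2)! / ((g + 1)! * (a + p + 1)!) := by
    rw [show a + 1 + g + 1 + p = (g + 1) + (a + p + 1) by ring, chooseR]
    congr 2
    ring_nf
  have key : (((a + 1 + g + p + 2).choose (a + 1 + g + 1) * (a + 1 + g).choose a +
      (a + 1 + g + p + 1).choose (a + 1 + g + 1) * (a + 1 + g).choose (a + 1) : ℕ) : ℚ) =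
    (((a + p + 2).choose (p + 1) * (a + 1 + g + 1 + p).choose (a + p + 1) : ℕ) : ℚ) := by
    push_cast
    rw [h1, h2, h3, h4, h5, h6]
    have e1 : (a + g + p + 3)! = (a + g + p + 3) * (a + g + p + 2)! := Nat.factorial_succ _
    have e2 : (a + g + 2)! = (a + g + 2) * (a + g + 1)! := Nat.factorial_succ _
    have e3 : (a + p + 2)! = (a + p + 2) * (a + p + 1)! := Nat.factorial_succ _
    rw [e1, e2, e3, Nat.factorial_succ a, Nat.factorial_succ g, Nat.factorial_succ p]
    have f1 : (a ! : ℚ) ≠ 0 := Nat.cast_ne_zero.2 (Nat.factorial_ne_zero _)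
    have f2 : (g ! : ℚ) ≠ 0 := Nat.cast_ne_zero.2 (Nat.factorial_ne_zero _)
    have f3 : (p ! : ℚ) ≠ 0 := Nat.cast_ne_zero.2 (Nat.factorial_ne_zero _)
    have f4 : ((a + g + 1) ! : ℚ) ≠ 0 := Nat.cast_ne_zero.2 (Nat.factorial_ne_zero _)
    have f5 : ((a + p + 1) ! : ℚ) ≠ 0 := Nat.cast_ne_zero.2 (Nat.factorial_ne_zero _)
    have f6 : (a + g + 2 : ℚ) ≠ 0 := by exact_mod_cast (show a + g + 2 ≠ 0 by omega)
    push_cast
    field_simp
    ring
  exact_mod_cast key

theorem c_neg (n e : ℕ) (he : 1 ≤ e) : c n (-(e : ℤ)) = (-1) ^ n * ((e - 1).choose n : ℤ) := by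
  unfold c
  rw [if_neg (by omega)]
  split_ifs with h
  · congr 3
    omega
  · rw [Nat.choose_eq_zero_of_lt (show e - 1 < n by omega)]
    simp

theorem c_pos (n d : ℕ) : c n (d : ℤ) = ((n + d).choose n : ℤ) := by
  unfold c
  rw [if_pos (by omega)]
  simp

/-- The identity behind the formula for `h^n(Ω^p(-e))`. -/
theorem id_neg (n p e : ℕ) (hp : p + 1 ≤ n) (he : 1 ≤ e) :
    ((-1) ^ n * ((e + (p + 1)).choose e * (e - 1).choose (n - (p + 1)) : ℕ) +
      (-1) ^ n * ((e + p).choose e * (e - 1).choose (n - p) : ℕ) : ℤ) =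
      (n + 1).choose (p + 1) * c n (-(e : ℤ) - (p + 1)) := by
  obtain ⟨a, rfl⟩ := Nat.exists_eq_add_of_le' hp
  obtain ⟨f, rfl⟩ := Nat.exists_eq_add_of_le' he
  have hc := c_neg (a + (p + 1)) (f + 1 + (p + 1)) (by omega)
  have e0 : (-((f + 1 : ℕ) : ℤ) - (p + 1)) = -((f + 1 + (p + 1) : ℕ) : ℤ) := by push_cast; ring
  rw [e0, hc, ← mul_add, mul_left_comm]
  congr 1
  norm_cast
  rw [show a + (p + 1) - (p + 1) = a by omega, show a + (p + 1) - p = a + 1 by omega, Nat.add_sub_cancel,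
    show f + 1 + (p + 1) - 1 = f + 1 + p by omega]
  rcases lt_trichotomy f a with h | rfl | h
  · rw [Nat.choose_eq_zero_of_lt h, Nat.choose_eq_zero_of_lt (show f < a + 1 by omega),
      Nat.choose_eq_zero_of_lt (show f + 1 + p < a + (p + 1) by omega)]
    simp
  · rw [Nat.choose_self, Nat.choose_eq_zero_of_lt (show f < f + 1 by omega),
      show f + (p + 1) = f + 1 + p by ring, Nat.choose_self]
    simp only [mul_one, mul_zero, add_zero]
    rw [show f + 1 + p + 1 = f + 1 + (p + 1) by ring, Nat.choose_symm_add]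
  · obtain ⟨g, rfl⟩ := Nat.exists_eq_add_of_lt h
    have := id_neg' a g p
    have e2 : a + g + 1 + 1 + (p + 1) = a + 1 + g + p + 2 := by ring
    have e3 : a + g + 1 + 1 + p = a + 1 + g + p + 1 := by ring
    have e4 : a + g + 1 = a + 1 + g := by ring
    have e5 : a + (p + 1) = a + p + 1 := by ring
    rw [e2, e3, e4, e5]
    have e6 : a + 1 + g + 1 + p = a + 1 + g + p + 1 := by ring
    rw [e6] at this
    exact this

end K271.BottComb
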