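import Groth.Agent.Coherent.K54.HodgePn
import Groth.Agent.VarietyB.EulerBinom
import Groth.Agent.CAlgX.K581.HomDim
import Groth.Agent.ProjDual.K271.BottComb

/-!
# Bott's formula: dimension of the cohomology of `Ω^p(d)` on projective space

* `K271.Bott.finrank_pos`: `h^0(P^n, Ω^p(d)) = C(d + n - p, d) C(d - 1, p)` for `d ≥ 1`;
* `K271.Bott.finrank_neg`: `h^n(P^n, Ω^p(-e)) = C(e + p, e) C(e - 1, n - p)` for `e ≥ 1`;
* `K271.Bott.finrank_eq`: all the dimensions.
-/

set_option autoImplicit false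
universe u

open CategoryTheory CategoryTheory.Limits AlgebraicGeometry
open Groth.Agent Groth.Agent.Sga67.TwistProj Groth.Agent.VarietyB K54.HodgePn

namespace K271.Bott

variable (k : Type u) [Field k] (n : ℕ)

theorem N_eq (d : ℕ) : EulerBinom.N n d = Nat.choose (n + d) n := by
  rw [← EulerBinom.finrank_homogeneous ℚ n d, K581.HomDim.finrank_homogeneous ℚ n d, add_comm]

theorem c_eq (t : ℤ) : EulerBinom.c n t = BottComb.c n t := by
  unfold EulerBinom.c BottComb.c
  simp only [N_eq]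

theorem isCoh_tA_extPow {M L : (CohB1.ProjSpace n k).Modules} {r p : ℕ} (hM : FlatMod.IsFinLocFreeOfRank r M)
    (hL : ExtPow.IsExtPow p M L) (t : ℤ) : Coh.IsCoh ((tA n k t).obj L) :=
  PerfA.CohSerre.isCoh_of_isFinLocFree (isFinLocFree_tA t
    (Krr.H487.KerRank.isFinLocFree_of_rank (Krr.H487.KerRank.isFinLocFreeOfRank_extPow hM hL)))

theorem euler_zero {M L : (CohB1.ProjSpace n k).Modules} (hL : ExtPow.IsExtPow 0 M L) (t : ℤ) :
    Curv2.euler k (CohB1.ProjSpace n k) ((tA n k t).obj L) = BottComb.c n t := by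
  obtain ⟨e⟩ := nonempty_tA_extPow_zero hL t
  rw [← EulerBinom.euler_iso k n e, EulerBinom.euler_twist, c_eq]

theorem euler_extPow_E (r : ℕ) : ∀ (p : ℕ) (L : (CohB1.ProjSpace n k).Modules)
    (_ : ExtPow.IsExtPow p (E n k r) L) (t : ℤ),
    Curv2.euler k (CohB1.ProjSpace n k) ((tA n k t).obj L) = (r.choose p : ℤ) * BottComb.c n (t - p) := by
  induction r with
  | zero =>
    intro p L hL t
    obtain _ | p := p
    · rw [euler_zero k n hL]
      simp
    · rw [Nat.choose_zero_succ, Nat.cast_zero, zero_mul]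
      exact EulerDiff.e_zero (EulerBinom.isAdd_euler k n)
        ((tA n k t).map_isZero (Krr.H502.KosZero.isZero_of_isExtPow (rank_E n k 0) hL (by omega)))
        (isCoh_tA_extPow k n (rank_E n k 0) hL t)
  | succ r ih =>
    intro p L hL t
    obtain _ | p := p
    · rw [euler_zero k n hL]
      simp
    · have hq := isQCoh_E n k r
      obtain ⟨L', hL'⟩ := Dual.H366.ExtQCoh.exists_isExtPow (p + 1) hq
      obtain ⟨K, hK⟩ := Dual.H366.ExtQCoh.exists_isExtPow p hq
      obtain ⟨T, hT, e1, e2, ⟨e3⟩⟩ := exists_ses_tA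
        (shortExact_seq (fun _ : Fin (r + 1) => Twist.twistProjSpace n k (-1))) (-1) (Iso.refl _)
        hL' hL hK t (t - 1) (by ring)
      have h := EulerBinom.isAdd_euler k n T hT (e1 ▸ isCoh_tA_extPow k n (rank_E n k r) hL' t)
        (e2 ▸ isCoh_tA_extPow k n (rank_E n k (r + 1)) hL t)
        (PerfA.CohSerre.isCoh_of_iso e3.symm (isCoh_tA_extPow k n (rank_E n k r) hK (t - 1)))
      rw [e1, e2, EulerBinom.euler_iso k n e3, ih (p + 1) L' hL' t, ih p K hK (t - 1)] at h
      rw [h, Nat.choose_succ_succ]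
      have : t - 1 - (p : ℤ) = t - ((p + 1 : ℕ) : ℤ) := by push_cast; ring
      rw [this]
      push_cast
      ring

theorem euler_omega_succ {p : ℕ} {L' K : (CohB1.ProjSpace n k).Modules}
    (hL' : ExtPow.IsExtPow (p + 1) (Omega.sheaf (CohB1.ProjSpace.toSpec n k)) L')
    (hK : ExtPow.IsExtPow p (Omega.sheaf (CohB1.ProjSpace.toSpec n k)) K) (t : ℤ) :
    Curv2.euler k (CohB1.ProjSpace n k) ((tA n k t).obj L') +
      Curv2.euler k (CohB1.ProjSpace n k) ((tA n k t).obj K) =
      ((n + 1).choose (p + 1) : ℤ) * BottComb.c n (t - (p + 1)) := by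
  have hq := isQCoh_E n k (n + 1)
  obtain ⟨L, hL⟩ := Dual.H366.ExtQCoh.exists_isExtPow (p + 1) hq
  obtain ⟨T, hT, e1, e2, ⟨e3⟩⟩ := exists_ses_tA (K54.Euler.shortExact n k) 0 (Iso.refl _) hL' hL hK t t
    (add_zero t)
  have h := EulerBinom.isAdd_euler k n T hT (e1 ▸ isCoh_tA_extPow k n (rank_omega n k) hL' t)
    (e2 ▸ isCoh_tA_extPow k n (rank_E n k (n + 1)) hL t)
    (PerfA.CohSerre.isCoh_of_iso e3.symm (isCoh_tA_extPow k n (rank_omega n k) hK t))
  rw [e1, e2, EulerBinom.euler_iso k n e3, euler_extPow_E k n (n + 1) (p + 1) L hL t] at h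
  rw [← h]
  push_cast
  ring

theorem euler_pos (d : ℕ) (hd : 1 ≤ d) (p : ℕ) : ∀ (_ : p ≤ n) (L : (CohB1.ProjSpace n k).Modules)
    (_ : ExtPow.IsExtPow p (Omega.sheaf (CohB1.ProjSpace.toSpec n k)) L),
    Curv2.euler k (CohB1.ProjSpace n k) ((tA n k d).obj L) =
      (Nat.choose (d + n - p) d * Nat.choose (d - 1) p : ℤ) := by
  induction p with
  | zero =>
    intro _ L hL
    rw [euler_zero k n hL, BottComb.c_pos, Nat.choose_zero_right, Nat.sub_zero, add_comm n d, Nat.choose_symm_add]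
    simp
  | succ p ih =>
    intro hp L hL
    obtain ⟨K, hK⟩ := exists_extPow_omega n k p
    have h := euler_omega_succ k n hL hK d
    rw [ih (by omega) K hK, ← BottComb.id_pos n p d hp hd] at h
    linarith

theorem euler_neg (e : ℕ) (he : 1 ≤ e) (p : ℕ) : ∀ (_ : p ≤ n) (L : (CohB1.ProjSpace n k).Modules)
    (_ : ExtPow.IsExtPow p (Omega.sheaf (CohB1.ProjSpace.toSpec n k)) L),
    Curv2.euler k (CohB1.ProjSpace n k) ((tA n k (-(e : ℤ))).obj L) =
      (-1) ^ n * ((Nat.choose (e + p) e * Nat.choose (e - 1) (n - p) : ℕ) : ℤ) := by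
  induction p with
  | zero =>
    intro _ L hL
    rw [euler_zero k n hL, BottComb.c_neg n e he, Nat.add_zero, Nat.choose_self, one_mul, Nat.sub_zero]
  | succ p ih =>
    intro hp L hL
    obtain ⟨K, hK⟩ := exists_extPow_omega n k p
    have h := euler_omega_succ k n hL hK (-(e : ℤ))
    rw [ih (by omega) K hK, ← BottComb.id_neg n p e hp he] at h
    exact add_right_cancel h

variable {n} in
/-- `H^q(Ω^p(t)) = 0` for `t < 0` and `q < n`. -/
theorem vanish_neg (A : Type u) [CommRing A] (t : ℤ) (ht : t < 0) (p : ℕ) :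
    ∀ (L : (CohB1.ProjSpace n A).Modules)
    (_ : ExtPow.IsExtPow p (Omega.sheaf (CohB1.ProjSpace.toSpec n A)) L) (q : ℕ) (_ : q < n),
    Subsingleton (Coh.HH (CohB1.ProjSpace n A) ((tA n A t).obj L) q) := by
  induction p with
  | zero =>
    intro L hL q hq
    obtain ⟨e⟩ := nonempty_tA_extPow_zero hL t
    exact Fga.HShift.subsingleton_of_iso e q (S0844.result A n t q (by omega) (by omega))
  | succ p ih =>
    intro L hL q hq
    obtain ⟨K, hK⟩ := exists_extPow_omega n A p
    obtain ⟨T, hT, e1, ⟨e3⟩, hv⟩ := exists_ses_omega hL hK t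
    rw [← e1]
    have hM : Subsingleton (Coh.HH (CohB1.ProjSpace n A) T.X₂ q) :=
      hv q (S0844.result A n _ q (by omega) (by omega))
    obtain _ | q := q
    · exact subsingleton_zero hT hM
    · exact Fga.HShift.subsingleton₁ hT q (Fga.HShift.subsingleton_of_iso e3.symm q (ih K hK q (by omega))) hM

theorem euler_eq_single {F : (CohB1.ProjSpace n k).Modules} (q : ℕ)
    (h : ∀ i, i ≠ q → Subsingleton (Coh.HH (CohB1.ProjSpace n k) F i)) :
    Curv2.euler k (CohB1.ProjSpace n k) F =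
      (-1) ^ q * (Module.finrank k (Coh.HH (CohB1.ProjSpace n k) F q) : ℤ) := by
  unfold Curv2.euler
  rw [finsum_eq_single _ q]
  intro i hi
  have := h i hi
  rw [Module.finrank_zero_of_subsingleton]
  simp

theorem finrank_pos {d p : ℕ} (hd : 1 ≤ d) (hp : p ≤ n) {L : (CohB1.ProjSpace n k).Modules}
    (hL : ExtPow.IsExtPow p (Omega.sheaf (CohB1.ProjSpace.toSpec n k)) L) :
    Module.finrank k (Coh.HH (CohB1.ProjSpace n k) ((tA n k d).obj L) 0) =
      Nat.choose (d + n - p) d * Nat.choose (d - 1) p := by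
  have h := euler_pos k n d hd p hp L hL
  rw [euler_eq_single k n 0 fun i hi => vanish_pos (d : ℤ) (by omega) (n + 1) p (by omega) L hL i (by omega)] at h
  rw [pow_zero, one_mul] at h
  exact_mod_cast h

theorem finrank_neg {e p : ℕ} (he : 1 ≤ e) (hp : p ≤ n) {L : (CohB1.ProjSpace n k).Modules}
    (hL : ExtPow.IsExtPow p (Omega.sheaf (CohB1.ProjSpace.toSpec n k)) L) :
    Module.finrank k (Coh.HH (CohB1.ProjSpace n k) ((tA n k (-(e : ℤ))).obj L) n) =
      Nat.choose (e + p) e * Nat.choose (e - 1) (n - p) := by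
  have h := euler_neg k n e he p hp L hL
  rw [euler_eq_single k n n fun i hi => ?_] at h
  · have h2 : ((-1 : ℤ) ^ n) ≠ 0 := pow_ne_zero _ (by norm_num)
    exact_mod_cast mul_left_cancel₀ h2 h
  · rcases Nat.lt_or_ge i n with h1 | h1
    · exact vanish_neg k _ (by omega) p L hL i h1
    · haveI : Coh.IsQCoh ((tA n k (-(e : ℤ))).obj L) := (isCoh_tA_extPow k n (rank_omega n k) hL _).1
      exact S0022.result n k _ i (by omega)

theorem finrank_congr {M N : (CohB1.ProjSpace n k).Modules} (e : M ≅ N) (q : ℕ) :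
    Module.finrank k (Coh.HH (CohB1.ProjSpace n k) M q) =
      Module.finrank k (Coh.HH (CohB1.ProjSpace n k) N q) := by
  obtain ⟨a⟩ := nonempty_linearEquiv e q
  exact a.finrank_eq

/-- `F ⊗ O(d)` versus `O(d) ⊗ F`. -/
noncomputable def swapIso (L : (CohB1.ProjSpace n k).Modules) (d : ℤ) :
    CohB1.tensorMod L (Twist.twistProjSpace n k d) ≅ (tA n k d).obj L :=
  Ega2.Tens.swap L (Twist.twistProjSpace n k d)

/-- The dimensions of the cohomology groups of `Ω^p(d)`, `p ≤ n`, in degrees `q ≤ n`. -/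
theorem finrank_eq {p q : ℕ} (hp : p ≤ n) (hq : q ≤ n) {L : (CohB1.ProjSpace n k).Modules}
    (hL : ExtPow.IsExtPow p (Omega.sheaf (CohB1.ProjSpace.toSpec n k)) L) (d : ℤ) :
    Module.finrank k (Coh.HH (CohB1.ProjSpace n k) (CohB1.tensorMod L (Twist.twistProjSpace n k d)) q) =
      if 0 < d then
        (if q = 0 then Nat.choose (d.toNat + n - p) d.toNat * Nat.choose (d.toNat - 1) p else 0)
      else if d < 0 then
        (if q = n then Nat.choose ((-d).toNat + p) (-d).toNat * Nat.choose ((-d).toNat - 1) (n - p) else 0)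
      else if q = p then 1 else 0 := by
  rw [finrank_congr k n (swapIso k n L d)]
  split_ifs with h1 h2 h3 h4 h5
  · subst h2
    obtain ⟨e, rfl⟩ := Int.eq_ofNat_of_zero_le h1.le
    exact finrank_pos k n (by omega) hp hL
  · have := vanish_pos d h1 (n + 1) p (by omega) L hL q (by omega)
    exact Module.finrank_zero_of_subsingleton
  · subst h4
    obtain ⟨e, he⟩ := Int.eq_ofNat_of_zero_le (show 0 ≤ -d by omega)
    obtain rfl : d = -(e : ℤ) := by omega
    have h := finrank_neg k q (e := e) (by omega) hp hL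
    simpa using h
  · have := vanish_neg k d h3 p L hL q (by omega)
    exact Module.finrank_zero_of_subsingleton
  · obtain rfl : d = 0 := by omega
    subst h5
    obtain ⟨e⟩ := nonempty_tA_zero n k L
    obtain ⟨a⟩ := diagonal q hp L hL
    rw [finrank_congr k n e, a.finrank_eq, Module.finrank_self]
  · obtain rfl : d = 0 := by omega
    obtain ⟨e⟩ := nonempty_tA_zero n k L
    rw [finrank_congr k n e]
    have := vanish p L hL q (Or.inl (Ne.symm h5))
    exact Module.finrank_zero_of_subsingleton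

end K271.Bott
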