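import Groth.Agent.Surf.K461.DualLF
import Groth.Agent.Surf.K461.ProperForm
import Groth.Agent.S3637
import Groth.Agent.Sga5.H855.ConeH

/-!
# Duality for finite locally free modules on an equidimensional proper Cohen–Macaulay scheme over a field

* `K271.CMDual.IsPair`: `(ω, t)` represents the dual of `F ↦ H^n(X, F)` on coherent modules.
* `K271.CMDual.exists_isPair_of_form`: a perfect form on `Hom_D(O_X, W[n])` gives such a pair.
* `K271.CMDual.nonempty_iso`: uniqueness.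
* `K271.CMDual.nonempty_dual_equiv`: `H^p(X, F)^* = H^m(X, Hom(F, ω))`, `m + p = n`.
-/

set_option autoImplicit false

universe u

open CategoryTheory CategoryTheory.Limits AlgebraicGeometry

attribute [local instance] HasDerivedCategory.standard

namespace K271.CMDual

open Groth.Agent Groth.Agent.CurvesC Groth.Agent.CurvesC.RepX Groth.Agent.CurvesC.DualLin

variable (k : Type u) [Field k] {X : Scheme.{u}} [X.Over (Spec (CommRingCat.of k))]

attribute [local instance] LinMod.linearModules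

/-- `(ω, t)` represents the dual of `F ↦ H^n(X, F)` on coherent modules. -/
def IsPair (n : ℕ) (ω : X.Modules) (t : Coh.HH X ω n →ₗ[k] k) : Prop :=
  ∀ F : X.Modules, Coh.IsCoh F → ∀ ψ : Coh.HH X F n →ₗ[k] k,
    ∃! φ : F ⟶ ω, ∀ x : Coh.HH X F n,
      ψ x = t (Sheaf.H.map ((SheafOfModules.toSheaf X.ringCatSheaf).map φ) n x)

/-- The sealed version of `IsPair`. -/
theorem isPair_of_bijective {n : ℕ} {ω : X.Modules} {t : HV X ω n →ₗ[k] k}
    (h : ∀ F : X.Modules, Coh.IsCoh F → Function.Bijective (fun φ : F ⟶ ω => t ∘ₗ HV.map k φ n)) :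
    IsPair k n ω (t ∘ₗ (HV.equiv k ω n).symm.toLinearMap) := by
  intro F hF ψ
  obtain ⟨φ, hφ, huniq⟩ := (h F hF).existsUnique (ψ ∘ₗ (HV.equiv k F n).toLinearMap)
  have key : ∀ (φ' : F ⟶ ω) (x : Coh.HH X F n),
      (HV.equiv k ω n).symm (Sheaf.H.map ((SheafOfModules.toSheaf X.ringCatSheaf).map φ') n x) =
        HV.map k φ' n ((HV.equiv k F n).symm x) := by
    intro φ' x
    rw [LinearEquiv.symm_apply_eq, HV.equiv_map, LinearEquiv.apply_symm_apply]
  refine ⟨φ, fun x => ?_, fun φ' hφ' => huniq φ' ?_⟩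
  · have h1 := LinearMap.congr_fun hφ ((HV.equiv k F n).symm x)
    simp only [LinearMap.comp_apply, LinearEquiv.coe_coe, LinearEquiv.apply_symm_apply] at h1 ⊢
    rw [key, h1]
  · ext y
    have h1 := hφ' (HV.equiv k F n y)
    simp only [LinearMap.comp_apply, LinearEquiv.coe_coe] at h1 ⊢
    rw [h1, key, LinearEquiv.symm_apply_apply]

include k in
theorem HH_map_id (F : X.Modules) (n : ℕ) (x : Coh.HH X F n) :
    Sheaf.H.map ((SheafOfModules.toSheaf X.ringCatSheaf).map (𝟙 F)) n x = x :=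
  LinearMap.congr_fun (HV.map_id k (F := F) n) x

include k in
theorem HH_map_comp {F G K : X.Modules} (φ : F ⟶ G) (ψ : G ⟶ K) (n : ℕ) (x : Coh.HH X F n) :
    Sheaf.H.map ((SheafOfModules.toSheaf X.ringCatSheaf).map (φ ≫ ψ)) n x =
      Sheaf.H.map ((SheafOfModules.toSheaf X.ringCatSheaf).map ψ) n
        (Sheaf.H.map ((SheafOfModules.toSheaf X.ringCatSheaf).map φ) n x) :=
  HV.map_comp_apply k φ ψ n x

/-- The object representing the dual of `H^n` is unique up to isomorphism. -/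
theorem nonempty_iso {n : ℕ} {ω ω' : X.Modules} {t : Coh.HH X ω n →ₗ[k] k} {t' : Coh.HH X ω' n →ₗ[k] k}
    (hω : Coh.IsCoh ω) (hω' : Coh.IsCoh ω') (h : IsPair k n ω t) (h' : IsPair k n ω' t') :
    Nonempty (ω ≅ ω') := by
  obtain ⟨φ, hφ, -⟩ := h' ω hω t
  obtain ⟨ψ, hψ, -⟩ := h ω' hω' t'
  refine ⟨⟨φ, ψ, (h ω hω t).unique ?_ ?_, (h' ω' hω' t').unique ?_ ?_⟩⟩
  · intro x
    exact (hφ x).trans ((hψ _).trans (congrArg t (HH_map_comp k φ ψ n x).symm))
  · intro x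
    exact congrArg t (HH_map_id k ω n x).symm
  · intro x
    exact (hψ x).trans ((hφ _).trans (congrArg t' (HH_map_comp k ψ φ n x).symm))
  · intro x
    exact congrArg t' (HH_map_id k ω' n x).symm

/-- A perfect form on `Hom_D(O_X, W[n])` gives a pair. -/
theorem exists_isPair_of_form {W : X.Modules} (n : ℕ) (τ : (P X ⟶ (DCoh.inD X W)⟦(n : ℤ)⟧) →ₗ[k] k)
    (hτ : ∀ K : DCoh.D X, DCoh.IsQCohD K → Function.Bijective (pairing k X τ K)) :
    ∃ t : Coh.HH X W n →ₗ[k] k, IsPair k n W t := by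
  refine ⟨_, isPair_of_bijective k (t := τ ∘ₗ Linear.rightComp k (P X) (𝟙 ((DCoh.inD X W)⟦(n : ℤ)⟧)) ∘ₗ
    (homHVₗ k X W n).symm.toLinearMap) fun F hF => ?_⟩
  refine exists_unique_of_form k X n τ W (𝟙 _) (fun K _ => ?_) F
    (hτ _ (PerfA.QCohD.isQCohD_shift (PerfA.QCohD.isQCohD_inD F hF.1) (n : ℤ)))
  simp only [Category.comp_id]
  exact Function.bijective_id

/-- An object whose cohomology is concentrated in degree `-n`. -/
theorem exists_iso_of_isZero (K : DCoh.D X) (n : ℕ) (h : ∀ i : ℤ, i ≠ -(n : ℤ) → IsZero (DCoh.HD K i)) :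
    Nonempty (K ≅ (DCoh.inD X (DCoh.HD K (-(n : ℤ))))⟦(n : ℤ)⟧) := by
  obtain ⟨e⟩ := Sga5.H855.ConeH.exists_iso_single K (-(n : ℤ)) h
  exact ⟨e ≪≫ (((DerivedCategory.singleFunctors X.Modules).shiftIso (n : ℤ) (-(n : ℤ)) 0 (by lia)).app _).symm⟩

variable [IsProper (X ↘ Spec (CommRingCat.of k))]

/-- On an equidimensional proper Cohen–Macaulay scheme, there is a coherent `W` with a perfect form on
`Hom_D(O_X, W[n])`. -/
theorem exists_form (n : ℕ) (hCM : ∀ x : X, LocCoh.IsCohenMacaulayLocalRing (X.presheaf.stalk x))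
    (heq : ∀ Z : Set ↥X, Z ∈ irreducibleComponents ↥X → topologicalKrullDim ↥Z = (n : WithBot ℕ∞)) :
    ∃ (W : X.Modules) (_ : Coh.IsCoh W) (τ : (P X ⟶ (DCoh.inD X W)⟦(n : ℤ)⟧) →ₗ[k] k),
      ∀ K : DCoh.D X, DCoh.IsQCohD K → Function.Bijective (pairing k X τ K) := by
  obtain ⟨hR, h, hs, OY, hOY⟩ := K461.ProperForm.exists_data k X
  obtain ⟨hz, hcoh, -⟩ := S3637.result k X (X ↘ Spec (CommRingCat.of k)) hCM n heq h _
    (DCoh.shriekAdj (X ↘ Spec (CommRingCat.of k)) h) OY hOY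
  obtain ⟨τ, hτ⟩ := K461.ProperForm.exists_form_of_adj k X h _ (DCoh.shriekAdj (X ↘ Spec (CommRingCat.of k)) h) OY
    hOY (n : ℤ) (exists_iso_of_isZero _ n hz)
  exact ⟨_, hcoh, τ, hτ⟩

/-- Duality on an equidimensional proper Cohen–Macaulay scheme, for any pair `(ω, t)` representing the dual of
`H^n`. -/
theorem nonempty_dual_equiv (n : ℕ) (hCM : ∀ x : X, LocCoh.IsCohenMacaulayLocalRing (X.presheaf.stalk x))
    (heq : ∀ Z : Set ↥X, Z ∈ irreducibleComponents ↥X → topologicalKrullDim ↥Z = (n : WithBot ℕ∞))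
    {ω : X.Modules} (hω : Coh.IsCoh ω) {t : Coh.HH X ω n →ₗ[k] k} (hp : IsPair k n ω t)
    {F : X.Modules} (hF : FlatMod.IsFinLocFree F) [DCoh.HasSheafHom F] (m p : ℕ) (h : m + p = n) :
    Nonempty (Module.Dual k (Coh.HH X F p) ≃ₗ[k] Coh.HH X ((DCoh.sheafHom F).obj ω) m) := by
  obtain ⟨W, hW, τ, hτ⟩ := exists_form k n hCM heq
  obtain ⟨t', ht'⟩ := exists_isPair_of_form k n τ hτ
  obtain ⟨e⟩ := nonempty_iso k hW hω ht' hp
  obtain ⟨E⟩ := K461.DualLF.nonempty_dual_equiv_of_form k hF m p n h τ hτ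
  let i : (DCoh.sheafHom F).obj W ≅ (DCoh.sheafHom F).obj ω := (DCoh.sheafHom F).mapIso e
  let E' : HV X ((DCoh.sheafHom F).obj W) m ≃ₗ[k] HV X ((DCoh.sheafHom F).obj ω) m :=
    LinearEquiv.ofLinearMap (HV.map k i.hom m) (HV.map k i.inv m)
      (by rw [← HV.map_comp, i.inv_hom_id, HV.map_id]) (by rw [← HV.map_comp, i.hom_inv_id, HV.map_id])
  exact ⟨E.trans ((HV.equiv k _ m).symm.trans (E'.trans (HV.equiv k _ m)))⟩

end K271.CMDual
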