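import Groth.Agent.ProjDual.K271.ExtGlob
import Groth.Agent.Coherent.K48.StalkExt
import Groth.Agent.Coherent.K49.ExtCodim
import Groth.Agent.Sga4h.H924.Codim
import Groth.Agent.Divis.StalkMod
import Groth.Agent.S1478
import Groth.Agent.PerfA.CohSerre

/-!
# Vanishing of `Ext` below the codimension of the support on a smooth scheme

* `subsingleton_ext_free`: `Ext^q(M, L) = 0` for `L` finite free when `Ext^q(M, R) = 0`.
* `subsingleton_stalk`: `Ext^q(F_x, O_x) = 0` for `q + d < N` when `dim Supp F ≤ d` on a scheme smooth of relative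
  dimension `N` over a field.
* `isZero_rightDerived`: the sheaf version.
-/

set_option autoImplicit false
universe u

open CategoryTheory CategoryTheory.Limits AlgebraicGeometry TopologicalSpace

namespace K271.CodimVan

open Groth.Agent.CycB.LocQuot Groth.Agent.CycB.StalkLen Groth.Agent.CycB

theorem subsingleton_ext_free {R : Type u} [CommRing R] (M : ModuleCat.{u} R) (L : Type u) [AddCommGroup L] [Module R L]
    [Module.Free R L] [Module.Finite R L] (q : ℕ) (h : Subsingleton (Abelian.Ext M (ModuleCat.of R R) q)) :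
    Subsingleton (Abelian.Ext M (ModuleCat.of R L) q) := by
  refine subsingleton_of_forall_eq 0 fun x => ?_
  let b := Module.Free.chooseBasis R L
  let φ : (ModuleCat.of R L ⟶ ModuleCat.of R L) →+ Abelian.Ext M (ModuleCat.of R L) q :=
    AddMonoidHom.mk' (fun f => x.comp (Abelian.Ext.mk₀ f) (add_zero q)) (fun f g => by
      rw [Abelian.Ext.mk₀_add, Abelian.Ext.comp_add])
  have h1 : (𝟙 (ModuleCat.of R L)) = ∑ i, ModuleCat.ofHom (b.coord i) ≫
      ModuleCat.ofHom (LinearMap.toSpanSingleton R L (b i)) := by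
    ext m
    rw [ModuleCat.hom_sum]
    simp only [ModuleCat.hom_id, LinearMap.id_coe, id_eq, ModuleCat.hom_comp, ModuleCat.hom_ofHom,
      LinearMap.coe_sum, Finset.sum_apply, LinearMap.comp_apply, LinearMap.toSpanSingleton_apply, Module.Basis.coord_apply]
    exact (b.sum_repr m).symm
  have h2 : x = φ (𝟙 _) := by
    change x = x.comp (Abelian.Ext.mk₀ (𝟙 _)) (add_zero q)
    rw [Abelian.Ext.comp_mk₀_id]
  rw [h2, h1, map_sum]
  refine Finset.sum_eq_zero fun i _ => ?_
  change x.comp (Abelian.Ext.mk₀ (_ ≫ _)) (add_zero q) = 0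
  rw [← Abelian.Ext.mk₀_comp_mk₀, ← Abelian.Ext.comp_assoc_of_third_deg_zero,
    h.elim (x.comp (Abelian.Ext.mk₀ (ModuleCat.ofHom (b.coord i))) (add_zero q)) 0, Abelian.Ext.zero_comp]

/-- `Ext^q(E_x, O_x) = 0` for `q` less than the codimension of the support of `E`. -/
theorem subsingleton_stalk {k : Type u} [Field k] {X : Scheme.{u}} (N : ℕ) (f : X ⟶ Spec (CommRingCat.of k))
    [SmoothOfRelativeDimension N f]
    (E : X.Modules) (hE : Coh.IsCoh E) (d : ℕ) (hd : topologicalKrullDim (CohB1.support E) ≤ (d : WithBot ℕ∞))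
    (x : X) (q : ℕ) (hq : q + d < N) :
    Subsingleton (Abelian.Ext (ModuleCat.of (X.presheaf.stalk x) (E.presheaf.stalk x))
      (ModuleCat.of (X.presheaf.stalk x) (X.presheaf.stalk x)) q) := by
  let _ : X.Over (Spec (CommRingCat.of k)) := ⟨f⟩
  have hs : Smooth f := SmoothOfRelativeDimension.smooth N f
  have hs : Smooth (X ↘ Spec (CommRingCat.of k)) := hs
  have : IsLocallyNoetherian X := LocallyOfFiniteType.isLocallyNoetherian f
  have hreg : IsRegularLocalRing (X.presheaf.stalk x) := Groth.Agent.S1535.result k X x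
  have hfin : Module.Finite (X.presheaf.stalk x) (E.presheaf.stalk x) := StalkLoc.finite_stalk E hE x
  refine Groth.Agent.Sga2.CodimExt.subsingleton_ext_of_lt_height _ _ q fun r hr => ?_
  obtain ⟨ξ, h, rfl⟩ : ∃ (ξ : X) (h : ξ ⤳ x), r = primeOf h := ⟨_, ptOf_specializes r, (primeOf_ptOf r).symm⟩
  have hξ : ξ ∈ CohB1.support E := by
    have := (mem_support_stalk_iff E hE.1 h).1 hr
    exact not_subsingleton (E.presheaf.stalk ξ)
  have h1 := Groth.Agent.Sga4h.H924.Codim.le_ringKrullDim_stalk N d f (CohB1.support E)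
    (Groth.Agent.VarietyA.GlobGen.isClosed_support E hE.2) hd ξ hξ
  rw [K49.ExtCodim.height_primeOf h] at h1
  have h2 : ((N - d : ℕ) : ℕ∞) ≤ (primeOf h).asIdeal.height := by
    rw [← WithBot.coe_le_coe]
    exact h1
  refine lt_of_lt_of_le ?_ h2
  exact_mod_cast (by omega : q < N - d)

theorem isZero_rightDerived {k : Type u} [Field k] {X : Scheme.{u}} (N : ℕ) (f : X ⟶ Spec (CommRingCat.of k))
    [SmoothOfRelativeDimension N f] [HasInjectiveResolutions X.Modules]
    (E : X.Modules) (hE : Coh.IsCoh E) (L : X.Modules) (hL : FlatMod.IsFinLocFree L) (d : ℕ)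
    (hd : topologicalKrullDim (CohB1.support E) ≤ (d : WithBot ℕ∞)) (q : ℕ) (hq : q + d < N) :
    IsZero (((Groth.Agent.Dcoh.MonClosed.homFunctor E).rightDerived q).obj L) := by
  have hs : Smooth f := SmoothOfRelativeDimension.smooth N f
  have : IsLocallyNoetherian X := LocallyOfFiniteType.isLocallyNoetherian f
  rw [Groth.Agent.S1478.isZero_iff_stalk]
  intro x
  obtain ⟨e⟩ := K48.StalkExt.nonempty_linearEquiv x (RingEquiv.refl (X.presheaf.stalk x)) E L hE q (Iso.refl _) (Iso.refl _)
  have h1 := subsingleton_stalk N f E hE d hd x q hq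
  have hLq := (Groth.Agent.PerfA.CohSerre.isCoh_of_isFinLocFree hL).1
  have hfree := Groth.Agent.Divis.StalkMod.finite_free_stalk hLq hL x
  have := hfree.1
  have := hfree.2
  have h2 := subsingleton_ext_free (ModuleCat.of (X.presheaf.stalk x) (E.presheaf.stalk x)) (L.presheaf.stalk x) q h1
  have h3 : Subsingleton (Abelian.Ext.{u}
      ((K48.StalkExt.E (RingEquiv.refl (X.presheaf.stalk x))).obj ((K48.StalkExt.St x).obj E))
      ((K48.StalkExt.E (RingEquiv.refl (X.presheaf.stalk x))).obj ((K48.StalkExt.St x).obj L)) q) := h2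
  exact e.toEquiv.subsingleton

end K271.CodimVan
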