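import Groth.Agent.Coherent.K54.RelCoh
import Groth.Agent.Coherent.K53.FlfAdj
import Groth.Agent.Coherent.K49.ExtTensor
import Groth.Agent.Sga4h.RDExact
import Groth.Agent.S4373
import Groth.Agent.Ega3B.NearFibre
import Groth.Agent.ASBun.K790.Twist
import Groth.Agent.CycB.CohProp
import Groth.Agent.Dcoh.DerSch

/-!
# Coherence of the Ext sheaves; Ext sheaves and twists

* `isCoh_rightDerived`: the derived functors of `Hom(F, -)` at a coherent module are coherent, for `F` coherent on a locally
  Noetherian scheme; `isCoh_extSh`.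
* `twistIso`: `Ext^q(F, G ⊗ E') ≅ Ext^q(F, G) ⊗ E'` for dualizable `E'`.
-/

set_option autoImplicit false
universe u

open CategoryTheory CategoryTheory.Limits AlgebraicGeometry MonoidalCategory

namespace K271.ExtCoh

open Groth.Agent Groth.Agent.Dcoh.MonClosed Groth.Agent.Sga4h.RDExact
open scoped Groth.Agent.Dcoh.MonCat

variable {X : Scheme.{u}}

theorem isCoh_rightDerived [IsLocallyNoetherian X] [HasInjectiveResolutions X.Modules]
    {F G : X.Modules} (hF : Coh.IsCoh F) (hG : Coh.IsCoh G) (p : ℕ) :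
    Coh.IsCoh (((homFunctor F).rightDerived p).obj G) := by
  have h1 := K54.RelCoh.isCoh (𝟙 X) (Coh.structureModule X) (fun W hW => by
    have : IsAffine ((𝟙 X) ⁻¹ᵁ W).toScheme := hW
    exact Groth.Agent.S4373.result _ _ (Ega3B.NearFibre.isInvertible_restrict
      (K790.Twist.isInvertible_structureModule X) _)) hF hG p
  have e0 : K54.RelExt.Phi (𝟙 X) F ≅ homFunctor F :=
    Functor.isoWhiskerLeft (homFunctor F) (Scheme.Modules.pushforwardId X) ≪≫ (homFunctor F).rightUnitor
  exact CohqB.LocalQC.isCoh_of_iso ((K54.RelExt.derIso e0 p).app G) h1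

theorem isCoh_extSh [IsLocallyNoetherian X] {F G : X.Modules} (hF : Coh.IsCoh F) (hG : Coh.IsCoh G)
    [ModSite.HasSheafHom (O := X.sheaf) F] [h : HasInjectiveResolutions (ModSite.Mod X.sheaf)] (p : ℕ) :
    Coh.IsCoh ((ModSite.extSh (O := X.sheaf) F p).obj G : X.Modules) := by
  have h3 : HasInjectiveResolutions X.Modules := h
  let e : K49.ExtTensor.sHom F ≅ homFunctor F := K50.SectOn.sheafHomIso F
  exact CohqB.LocalQC.isCoh_of_iso ((K54.RelExt.derIso e p).app G).symm (isCoh_rightDerived hF hG p)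

/-- `Hom(F, - ⊗ E') ≅ Hom(F, -) ⊗ E'`. -/
noncomputable def homTwistIso (E E' F : X.Modules) [ExactPairing E E'] [ModSite.HasSheafHom (O := X.sheaf) F] :
    tensorRight E' ⋙ K49.ExtTensor.sHom F ≅ K49.ExtTensor.sHom F ⋙ tensorRight E' :=
  Adjunction.rightAdjointUniq
    ((show tensorRight F ⊣ K49.ExtTensor.sHom F from ModSite.sheafHomAdj (O := X.sheaf) F).comp (K53.FlfAdj.adjR E E'))
    (((K53.FlfAdj.adjR E E').comp
      (show tensorRight F ⊣ K49.ExtTensor.sHom F from ModSite.sheafHomAdj (O := X.sheaf) F)).ofNatIsoLeft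
      ((tensorRightTensor (C := X.Modules) E F).symm ≪≫ (tensoringRight X.Modules).mapIso (β_ E F) ≪≫
        tensorRightTensor (C := X.Modules) F E))

/-- `Ext^q(F, - ⊗ E') ≅ Ext^q(F, -) ⊗ E'`. -/
noncomputable def extTwistIso (E E' F : X.Modules) [ExactPairing E E'] [ExactPairing E' E]
    [ModSite.HasSheafHom (O := X.sheaf) F] [HasInjectiveResolutions X.Modules] (q : ℕ) :
    tensorRight E' ⋙ (K49.ExtTensor.sHom F).rightDerived q ≅ (K49.ExtTensor.sHom F).rightDerived q ⋙ tensorRight E' := by
  have h1 := K53.FlfAdj.pfl E E'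
  have h2 := K53.FlfAdj.pfc E' E
  have h1' := K53.FlfAdj.pfl E' E
  have h2' := K53.FlfAdj.pfc E E'
  have a2 : (tensorRight E').Additive := (K53.FlfAdj.adjR E' E).left_adjoint_additive
  have a1 : (tensorRight E).Additive := (K53.FlfAdj.adjR E E').left_adjoint_additive
  have p : (tensorRight E').PreservesHomology := inferInstance
  have pm : (tensorRight E).PreservesMonomorphisms := inferInstance
  have hT : ∀ I : X.Modules, Injective I → Injective ((tensorRight E').obj I) := fun I hI =>
    (K53.FlfAdj.adjR E E').map_injective I hI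
  exact (preIso (tensorRight E') (K49.ExtTensor.sHom F) hT q).symm ≪≫ congrIso (homTwistIso E E' F) q ≪≫
    postIso (K49.ExtTensor.sHom F) (tensorRight E') q

theorem nonempty_extSh_twist (E E' F G : X.Modules) [ExactPairing E E'] [ExactPairing E' E]
    [ModSite.HasSheafHom (O := X.sheaf) F] [h : HasInjectiveResolutions (ModSite.Mod X.sheaf)] (q : ℕ) :
    Nonempty (((ModSite.extSh (O := X.sheaf) F q).obj (CohB1.tensorMod G E') : X.Modules) ≅
      CohB1.tensorMod ((ModSite.extSh (O := X.sheaf) F q).obj G) E') := by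
  have h3 : HasInjectiveResolutions X.Modules := h
  exact ⟨(extTwistIso E E' F q).app G⟩

end K271.ExtCoh
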