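import Groth.Agent.ProjDual.K271.EdgePres
import Groth.Agent.ProjDual.K271.ExtCoh
import Groth.Agent.ProjDual.K274.ShBridge
import Groth.Agent.ProjDual.K274.TensLin
import Groth.Agent.Coherent.K49.HomFlasque
import Groth.Agent.S5749
import Groth.Agent.Sga2.LefLine

/-!
# The edge isomorphism `Ext^i(F, Y) ≃ₗ H^0(X, Ext^i(F, Y))`

It holds when the lower Ext sheaves `Ext^q(F, Y)`, `q < i`, have no higher cohomology.
-/

set_option autoImplicit false
universe u

open CategoryTheory CategoryTheory.Limits AlgebraicGeometry Abelian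

namespace K271.EdgeIso

open Groth.Agent K274.ShBridge K274.PartRes K271.EdgePres

variable (A : Type u) [CommRing A] {X : Scheme.{u}} [X.Over (Spec (CommRingCat.of A))] [HasExt.{u} X.Modules]

omit A in
theorem acyc_of_HH (E : X.Modules) (h : ∀ p : ℕ, 0 < p → Subsingleton (Coh.HH X E p)) :
    Acyc.{u} (Coh.structureModule X) E := fun p =>
  have := h (p + 1) p.succ_pos
  (CurvesC.ExtUnit.extHH E (p + 1)).toEquiv.subsingleton

variable (F Y : X.Modules) [ModSite.HasSheafHom (O := X.sheaf) F] [hI : HasInjectiveResolutions (ModSite.Mod X.sheaf)]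

omit [HasExt.{u} X.Modules] hI in
include A in
/-- Cohomology of isomorphic modules. -/
theorem subsingleton_HH_of_iso {E E' : X.Modules} (e : E ≅ E') (p : ℕ) (h : Subsingleton (Coh.HH X E p)) :
    Subsingleton (Coh.HH X E' p) := by
  have h1 : IsZero ((Sga2.PnHHDelta.hF A X p).obj E) := @ModuleCat.isZero_of_subsingleton _ _ _ h
  exact ModuleCat.subsingleton_of_isZero (h1.of_iso ((Sga2.PnHHDelta.hF A X p).mapIso e.symm))

theorem nonempty_edgeHH (i : ℕ) (hv : ∀ q : ℕ, q < i → ∀ p : ℕ, 0 < p →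
      Subsingleton (Coh.HH X ((ModSite.extSh (O := X.sheaf) F q).obj Y) p)) :
    Nonempty (Ext.{u} F Y i ≃ₗ[A] Coh.HH X ((ModSite.extSh (O := X.sheaf) F i).obj Y) 0) := by
  have h3 : HasInjectiveResolutions X.Modules := hI
  let J : InjectiveResolution Y := injectiveResolution Y
  let adj : DCoh.tensorRightMod F ⊣ shF F := shAdj F
  have hlin := K274.TensLin.linear_tensorRightMod A F
  have hadd : (DCoh.tensorRightMod F).Additive := adj.left_adjoint_additive
  obtain ⟨e⟩ := K271.EdgePres.nonempty_edge (R := A) (O := Coh.structureModule X) adj J i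
    (fun j _ => by
      have hJ := J.injective j
      refine acyc_of_HH _ fun p hp => ?_
      have e1 : Groth.Agent.CohqB.HomSheaf.homSheaf F (J.cocomplex.X j) ≅ (shF F).obj (J.cocomplex.X j) :=
        ((K50.SectOn.sheafHomIso F).app (J.cocomplex.X j)).symm
      exact subsingleton_HH_of_iso A e1 p (K49.HomFlasque.subsingleton_HH_homSheaf F _ p hp))
    (fun q hq => acyc_of_iso _ (extShObjIso (M := F) q J (shAdj F)) (acyc_of_HH _ (hv q hq)))
    (extShObjIso (M := F) i J (shAdj F)).symm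
  obtain ⟨e1⟩ := K274.TensLin.nonempty_extIsoLeft A (Ega2.Tens.lunit F) Y i
  exact ⟨(e1.symm.trans (e.trans (Ext.linearEquiv₀ (R := A)).symm)).trans (K274.ExtLin.eH A _ 0)⟩

end K271.EdgeIso

namespace K271.EdgeIso

open Groth.Agent

theorem main (A : Type u) [CommRing A] [IsNoetherianRing A] (n : ℕ) (X : Scheme.{u}) [X.Over (Spec (CommRingCat.of A))]
    (ι : X ⟶ CohB1.ProjSpace n A) [IsClosedImmersion ι]
    [HasExt.{u} X.Modules] (F G : X.Modules) (hF : Coh.IsCoh F) (hG : Coh.IsCoh G)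
    [ModSite.HasSheafHom (O := X.sheaf) F] [HasInjectiveResolutions (ModSite.Mod X.sheaf)] (i : ℕ) :
    ∃ d₀ : ℕ, ∀ d : ℕ, d₀ ≤ d →
      Nonempty (Abelian.Ext F (CohB1.tensorMod G ((Scheme.Modules.pullback ι).obj (Twist.twistProjSpace n A (d : ℤ)))) i ≃ₗ[A]
        Coh.HH X ((ModSite.extSh (O := X.sheaf) F i).obj
          (CohB1.tensorMod G ((Scheme.Modules.pullback ι).obj (Twist.twistProjSpace n A (d : ℤ))))) 0) := by
  have hN : IsLocallyNoetherian (CohB1.ProjSpace n A) :=
    have := Ega3B.ProjProper.isProper_toSpec n A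
    LocallyOfFiniteType.isLocallyNoetherian (CohB1.ProjSpace.toSpec n A)
  have hX : IsLocallyNoetherian X := LocallyOfFiniteType.isLocallyNoetherian ι
  have hv : ∀ q : ℕ, ∃ N : ℕ, ∀ m : ℤ, (N : ℤ) ≤ m → ∀ j : ℕ, 0 < j →
      Subsingleton (Coh.HH X (CohB1.tensorMod ((ModSite.extSh (O := X.sheaf) F q).obj G)
        ((Scheme.Modules.pullback ι).obj (Twist.twistProjSpace n A m))) j) := fun q =>
    S5749.exists_vanishing A n X ι _ (ExtCoh.isCoh_extSh hF hG q)
  choose N hN using hv
  refine ⟨∑ q ∈ Finset.range i, N q, fun d hd => nonempty_edgeHH A F _ i fun q hq p hp => ?_⟩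
  have hL : FlatMod.IsFinLocFree ((Scheme.Modules.pullback ι).obj (Twist.twistProjSpace n A (d : ℤ))) :=
    Sga2.LefLine.isFinLocFree_of_isInvertible (Fdesc.LocGen.isInvertible_pullback _
      (Ega3B.ProjFrame.isInvertible_twistProjSpace n A (d : ℤ)))
  obtain ⟨E, -, ⟨h1⟩, ⟨h2⟩⟩ := K53.FlfAdj.exists_pairing_symm hL
  obtain ⟨e⟩ := ExtCoh.nonempty_extSh_twist E ((Scheme.Modules.pullback ι).obj (Twist.twistProjSpace n A (d : ℤ))) F G q
  refine subsingleton_HH_of_iso A e.symm p (hN q d ?_ p hp)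
  have : N q ≤ d := (Finset.single_le_sum (f := N) (fun _ _ => Nat.zero_le _) (Finset.mem_range.mpr hq)).trans hd
  exact_mod_cast this

end K271.EdgeIso
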