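import Groth.Agent.ProjDual.K274.PartRes

/-!
# Cohomology objects of complexes of acyclic objects

If the terms of `K` in degrees `< n` are acyclic for `Hom(O, -)` and the cohomology objects in degrees `< n` are acyclic too,
then `Hom(O, H^n(K))` is presented by the cocycles of degree `n` of `Hom(O, K)` modulo the coboundaries.
-/

set_option autoImplicit false

universe t w v v' u u'

open CategoryTheory Limits Abelian

namespace K271.EdgePres

open K274.PartRes

variable {R : Type t} [CommRing R] {C : Type u} [Category.{v} C] [Abelian C] [Linear R C] [HasExt.{w} C]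
  (K : CochainComplex C ℕ) (O : C)

/-- `E` is acyclic for `Hom(O, -)`. -/
def Acyc (O E : C) : Prop := ∀ p : ℕ, Subsingleton (Ext.{w} O E (p + 1))

omit [Linear R C] in
theorem acyc_of_iso {E E' : C} (e : E ≅ E') (h : Acyc.{w} O E) : Acyc.{w} O E' := fun p =>
  subsingleton_of_forall_eq 0 fun x => by
    have h1 : x = (x.comp (Ext.mk₀ e.inv) (add_zero _)).comp (Ext.mk₀ e.hom) (add_zero _) := by
      rw [Ext.comp_assoc_of_third_deg_zero, Ext.mk₀_comp_mk₀, e.inv_hom_id, Ext.comp_mk₀_id]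
    rw [h1, (h p).elim (x.comp (Ext.mk₀ e.inv) (add_zero _)) 0, Ext.zero_comp]

omit [Linear R C] in
theorem acyc_mid {S : ShortComplex C} (hS : S.ShortExact) (h1 : Acyc.{w} O S.X₁) (h3 : Acyc.{w} O S.X₃) :
    Acyc.{w} O S.X₂ := fun p =>
  subsingleton_of_forall_eq 0 fun x => by
    obtain ⟨y, rfl⟩ := Ext.covariant_sequence_exact₂ O hS x ((h3 p).elim _ _)
    rw [(h1 p).elim y 0, Ext.zero_comp]

omit [Linear R C] in
theorem acyc_right {S : ShortComplex C} (hS : S.ShortExact) (h1 : Acyc.{w} O S.X₁) (h2 : Acyc.{w} O S.X₂) :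
    Acyc.{w} O S.X₃ := fun p =>
  subsingleton_of_forall_eq 0 fun x => by
    obtain ⟨y, rfl⟩ := Ext.covariant_sequence_exact₃ O hS x rfl ((h1 (p + 1)).elim _ _)
    rw [(h2 p).elim y 0, Ext.zero_comp]

omit [Linear R C] in
theorem acyc_of_isZero {E : C} (h : IsZero E) : Acyc.{w} O E := fun p =>
  subsingleton_of_forall_eq 0 fun x => by
    rw [← Ext.comp_mk₀_id x, h.eq_of_src (𝟙 E) 0, Ext.mk₀_zero, Ext.comp_zero]

omit [Linear R C] in
theorem acyc_cycles_of_bd (m : ℕ) (h : Acyc.{w} O (bd K m)) (hH : Acyc.{w} O (K.homology m)) :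
    Acyc.{w} O (K.cycles m) := acyc_mid O (shortExact_bd K m) h hH

omit [Linear R C] in
theorem acyc_bd (n : ℕ) (hK : ∀ j, j < n → Acyc.{w} O (K.X j)) (hH : ∀ q, q < n → Acyc.{w} O (K.homology q)) (m : ℕ)
    (hm : m ≤ n) : Acyc.{w} O (bd K m) := by
  induction m with
  | zero => exact acyc_of_isZero O (isZero_bd_zero K)
  | succ m ih =>
    exact acyc_right O (shortExact_toBd K m)
      (acyc_cycles_of_bd K O m (ih (by omega)) (hH m (by omega))) (hK m (by omega))

/-- The presentation of `Hom(O, H^n(K))`. -/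
noncomputable def pres (n : ℕ) (hK : ∀ j, j < n → Acyc.{w} O (K.X j)) (hH : ∀ q, q < n → Acyc.{w} O (K.homology q))
    {ω : C} (e : K.homology n ≅ ω) : Pres R K O n (O ⟶ ω) where
  φ := cls K R n e O
  surj f := by
    have hb := acyc_bd K O n hK hH n le_rfl
    have hS := shortExact_bd K n
    obtain ⟨y, hy⟩ := Ext.covariant_sequence_exact₃ O hS (Ext.mk₀ (f ≫ e.inv)) rfl ((hb 0).elim _ _)
    obtain ⟨y, rfl⟩ := Ext.homEquiv₀.symm.surjective y
    have h1 : Ext.mk₀ (y ≫ K.homologyπ n) = Ext.mk₀ (f ≫ e.inv) := by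
      rw [← hy]
      exact (Ext.mk₀_comp_mk₀ y (K.homologyπ n)).symm
    have h2 : y ≫ K.homologyπ n = f ≫ e.inv := Ext.homEquiv₀.symm.injective h1
    refine ⟨⟨y ≫ K.iCycles n, by rw [mem_Z, Category.assoc, K.iCycles_d, comp_zero]⟩, ?_⟩
    rw [cls_apply]
    have h3 : K.liftCycles (y ≫ K.iCycles n) (n + 1) (by simp) (by rw [Category.assoc, K.iCycles_d, comp_zero]) = y := by
      rw [← cancel_mono (K.iCycles n), K.liftCycles_i]
    rw [h3, ← Category.assoc, h2, Category.assoc, e.inv_hom_id, Category.comp_id]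
  ker_iff z := by
    rw [cls_apply]
    constructor
    · intro h
      have h1 : K.liftCycles z.1 (n + 1) (by simp) z.2 ≫ K.homologyπ n = 0 := by
        rw [← cancel_mono e.hom, Category.assoc, h, zero_comp]
      let g : O ⟶ bd K n := kernel.lift _ _ h1
      have hg : g ≫ kernel.ι (K.homologyπ n) ≫ K.iCycles n = z.1 := by
        change kernel.lift _ _ h1 ≫ _ = _
        rw [kernel.lift_ι_assoc, K.liftCycles_i]
      cases n with
      | zero =>
        rw [isB_zero_iff, ← hg, (isZero_bd_zero K).eq_of_tgt g 0, zero_comp]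
      | succ n =>
        have hb := acyc_bd K O (n + 1) hK hH n (Nat.le_succ n)
        have hc := acyc_cycles_of_bd K O n hb (hH n (Nat.lt_succ_self n))
        obtain ⟨y, hy⟩ := Ext.covariant_sequence_exact₃ O (shortExact_toBd K n) (Ext.mk₀ g) rfl ((hc 0).elim _ _)
        obtain ⟨y, rfl⟩ := Ext.homEquiv₀.symm.surjective y
        have h2 : Ext.mk₀ (y ≫ toBd K n) = Ext.mk₀ g := by
          rw [← hy]
          exact (Ext.mk₀_comp_mk₀ y (toBd K n)).symm
        have h3 : y ≫ toBd K n = g := Ext.homEquiv₀.symm.injective h2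
        rw [isB_succ_iff]
        exact ⟨y, by rw [← hg, ← h3, Category.assoc, toBd_ι_i]⟩
    · intro h
      cases n with
      | zero =>
        rw [isB_zero_iff] at h
        have h1 : K.liftCycles z.1 (0 + 1) (by simp) z.2 = 0 := by
          rw [← cancel_mono (K.iCycles 0), K.liftCycles_i, h, zero_comp]
        rw [h1, zero_comp]
      | succ c =>
        rw [isB_succ_iff] at h
        obtain ⟨g, hg⟩ := h
        have h1 : K.liftCycles z.1 (c + 1 + 1) (by simp) z.2 = g ≫ K.toCycles c (c + 1) := by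
          rw [← cancel_mono (K.iCycles (c + 1)), K.liftCycles_i, Category.assoc, K.toCycles_i, hg]
        rw [h1, Category.assoc, K.toCycles_comp_homologyπ_assoc, zero_comp, comp_zero]

variable {D : Type u'} [Category.{v'} D] [Abelian D] [Linear R D] [HasExt.{w} D] {L : C ⥤ D} {G : D ⥤ C} [L.Additive]
  [L.Linear R] [G.Additive]

/-- **The edge isomorphism** `Ext^n(L O, Y) ≃ₗ Hom(O, R^n G(Y))`. -/
theorem nonempty_edge (adj : L ⊣ G) {Y : D} (J : InjectiveResolution Y) (n : ℕ)
    (hK : ∀ j, j < n → Acyc.{w} O (G.obj (J.cocomplex.X j)))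
    (hH : ∀ q, q < n → Acyc.{w} O (((G.mapHomologicalComplex (ComplexShape.up ℕ)).obj J.cocomplex).homology q))
    {ω : C} (e : ((G.mapHomologicalComplex (ComplexShape.up ℕ)).obj J.cocomplex).homology n ≅ ω) :
    Nonempty (Ext.{w} (L.obj O) Y n ≃ₗ[R] (O ⟶ ω)) := by
  let P : Pres R ((G.mapHomologicalComplex (ComplexShape.up ℕ)).obj J.cocomplex) O n (O ⟶ ω) :=
    pres _ O n hK hH e
  let P' : Pres R ((G.mapHomologicalComplex (ComplexShape.up ℕ)).obj J.cocomplex) O n (Ext.{w} (L.obj O) Y n) :=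
    (presExt (R := R) (L.obj O) Y J n).comap (adjZ R adj J.cocomplex O n) (fun x => isB_adjZ adj J.cocomplex O n x)
  exact ⟨P'.equiv P⟩

end K271.EdgePres
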