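import Groth.Agent.ProjDual.K271.ExtDual
import Groth.Prelude.Def_KLin
import Mathlib.Algebra.Homology.DerivedCategory.Ext.Linear

/-!
# `Ext^m(F, ω) = H^p(X, F)^*`, `k`-linearly

* `K271.ExtDualLin.nonempty_linearEquiv_of_form`: for a perfect form on `Hom_D(O_X, W[n])`, and `m + p = n`,
  `Ext^m(F, W) ≃ₗ[k] H^p(X, F)^*` (linear structure of `KLin`) for `F` quasi-coherent.
* `K271.ExtDualLin.subsingleton_ext_of_lt`: `Ext^m(F, W) = 0` for `m > n`.
-/

set_option autoImplicit false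

universe w u

open CategoryTheory CategoryTheory.Limits AlgebraicGeometry

attribute [local instance] HasDerivedCategory.standard

namespace K271.ExtDualLin

open Groth.Agent Groth.Agent.CurvesC Groth.Agent.CurvesC.RepX Groth.Agent.CurvesC.DualLin

variable (k : Type u) [Field k] {X : Scheme.{u}} [X.Over (Spec (CommRingCat.of k))]

section K

/-- The linear structure of `Ext` from that of the derived category, in terms of multiplication by scalars. -/
theorem nonempty_linearEquiv [HasExt.{w} X.Modules] {W F : X.Modules} {V : Type u} [AddCommGroup V] [Module k V]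
    (m : ℕ) (E : (DCoh.inD X F ⟶ (DCoh.inD X W)⟦(m : ℤ)⟧) ≃+ V)
    (hE : ∀ (a : k) (g : DCoh.inD X F ⟶ (DCoh.inD X W)⟦(m : ℤ)⟧),
      E (g ≫ ((DerivedCategory.singleFunctor X.Modules 0).map (Formal.smulMod k W a))⟦(m : ℤ)⟧') = a • E g) :
    Nonempty (Abelian.Ext.{w} F W m ≃ₗ[k] V) := by
  let f : Abelian.Ext.{w} F W m ≃+ V := Abelian.Ext.homAddEquiv.trans E
  refine ⟨{ f with map_smul' := fun a x => ?_ }⟩
  change E (Abelian.Ext.homEquiv (a • x)) = a • E (Abelian.Ext.homEquiv x)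
  rw [← hE, Abelian.Ext.smul_eq_comp_mk₀, KLin.smul_id]
  refine congrArg E ((Abelian.Ext.comp_hom x (Abelian.Ext.mk₀ (Formal.smulMod k W a)) (add_zero m)).trans ?_)
  rw [Abelian.Ext.mk₀_hom, ShiftedHom.comp_mk₀]

end K

section LinMod

attribute [local instance] LinMod.linearModules

theorem exists_addEquiv {W F : X.Modules} (m p n : ℕ) (h : m + p = n)
    (τ : (P X ⟶ (DCoh.inD X W)⟦(n : ℤ)⟧) →ₗ[k] k) (hF : Coh.IsQCoh F)
    (hτ : ∀ K : DCoh.D X, DCoh.IsQCohD K → Function.Bijective (pairing k X τ K)) :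
    ∃ E : (DCoh.inD X F ⟶ (DCoh.inD X W)⟦(m : ℤ)⟧) ≃+ Module.Dual k (Coh.HH X F p),
      ∀ (a : k) (g : DCoh.inD X F ⟶ (DCoh.inD X W)⟦(m : ℤ)⟧),
        E (g ≫ ((DerivedCategory.singleFunctor X.Modules 0).map (Formal.smulMod k W a))⟦(m : ℤ)⟧') = a • E g := by
  obtain ⟨E⟩ := K461.DualAbs.dual_equiv_hom k m p n h τ
    (hτ _ (PerfA.QCohD.isQCohD_shift (PerfA.QCohD.isQCohD_inD F hF) (p : ℤ)))
  let E' := E.trans (HV.equiv k F p).symm.dualMap
  refine ⟨E'.toAddEquiv, fun a g => ?_⟩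
  have h1 : g ≫ ((DerivedCategory.singleFunctor X.Modules 0).map (Formal.smulMod k W a))⟦(m : ℤ)⟧' = a • g := by
    rw [LinMod.singleFunctor_map_smulMod, Functor.map_smul, CategoryTheory.Functor.map_id, Linear.comp_smul,
      Category.comp_id]
  rw [h1]
  exact E'.map_smul a g

/-- `Hom_D(F, W[m]) = 0` for `m > n`. -/
theorem subsingleton_ext_of_lt [HasExt.{w} X.Modules] {W F : X.Modules} (m n : ℕ) (h : n < m)
    (τ : (P X ⟶ (DCoh.inD X W)⟦(n : ℤ)⟧) →ₗ[k] k) (hF : Coh.IsQCoh F)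
    (hτ : ∀ K : DCoh.D X, DCoh.IsQCohD K → Function.Bijective (pairing k X τ K)) :
    Subsingleton (Abelian.Ext.{w} F W m) := by
  let p : ℤ := (n : ℤ) - m
  let E1 := K461.DualAbs.homShiftE k F W (m : ℤ) p (n : ℤ) (by lia)
  let E2 := LinearEquiv.ofBijective _ (hτ _ (PerfA.QCohD.isQCohD_shift (PerfA.QCohD.isQCohD_inD F hF) p))
  have hF1 : ((DCoh.inD X F)⟦p⟧).IsGE (-p) := DerivedCategory.TStructure.t.isGE_shift _ 0 p (-p) (by lia)
  have hP : (P X).IsLE 0 := inferInstanceAs ((DCoh.inD X (Coh.structureModule X)).IsLE 0)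
  have h0 : Subsingleton (P X ⟶ (DCoh.inD X F)⟦p⟧) :=
    ⟨fun f g => (DerivedCategory.TStructure.t.zero_of_isLE_of_isGE f 0 (-p) (by lia) hP hF1).trans
      (DerivedCategory.TStructure.t.zero_of_isLE_of_isGE g 0 (-p) (by lia) hP hF1).symm⟩
  have h1 : Subsingleton (DCoh.inD X F ⟶ (DCoh.inD X W)⟦(m : ℤ)⟧) := (E1.trans E2).toEquiv.subsingleton
  exact Abelian.Ext.homEquiv.subsingleton

end LinMod

theorem nonempty_of_exists [HasExt.{w} X.Modules] {W F : X.Modules} (m p : ℕ)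
    (h : ∃ E : (DCoh.inD X F ⟶ (DCoh.inD X W)⟦(m : ℤ)⟧) ≃+ Module.Dual k (Coh.HH X F p),
      ∀ (a : k) (g : DCoh.inD X F ⟶ (DCoh.inD X W)⟦(m : ℤ)⟧),
        E (g ≫ ((DerivedCategory.singleFunctor X.Modules 0).map (Formal.smulMod k W a))⟦(m : ℤ)⟧') = a • E g) :
    Nonempty (Abelian.Ext.{w} F W m ≃ₗ[k] Module.Dual k (Coh.HH X F p)) := by
  obtain ⟨E, hE⟩ := h
  exact nonempty_linearEquiv k m E hE

end K271.ExtDualLin
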