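import Groth.Agent.Htor.H255.ExtRD
import Groth.Agent.PerfC.RHomBnd556
import Groth.Agent.Dual.H311.Glue

/-!
# Vanishing of global `Ext` from the vanishing of local `Ext`

* `K271.ExtGlob.subsingleton_hom`: if `RHom(K, L)` is in degrees `≥ p` then `Hom_D(K, L[i]) = 0` for `i < p`.
* `K271.ExtGlob.subsingleton_ext`: if the derived functors `R^q Hom(F, -)` vanish at `G` for `q < p`, then
  `Ext^i(F, G) = 0` for `i < p`.
-/

set_option autoImplicit false

universe w u

open CategoryTheory CategoryTheory.Limits AlgebraicGeometry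

attribute [local instance] HasDerivedCategory.standard

namespace K271.ExtGlob

open Groth.Agent Groth.Agent.PerfC.DTens Groth.Agent.PerfC.RHomD Groth.Agent.Dcoh.MonClosed

variable {X : Scheme.{u}}

theorem subsingleton_hom {K L : DCoh.D X} {p : ℤ} (h : ((RH K).obj L).IsGE p) (i : ℤ) (hi : i < p) :
    Subsingleton (K ⟶ L⟦i⟧) := by
  obtain ⟨e⟩ := Dual.H311.Glue.nonempty_shiftUnit X (-i)
  let M : DCoh.D X := (DCoh.inD X (Coh.structureModule X))⟦-i⟧
  have hM : M.IsLE i := DerivedCategory.TStructure.t.isLE_shift _ 0 (-i) i (by lia)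
  have h0 : Subsingleton (M ⟶ (RH K).obj L) :=
    ⟨fun f g => (DerivedCategory.TStructure.t.zero_of_isLE_of_isGE f i p hi hM h).trans
      (DerivedCategory.TStructure.t.zero_of_isLE_of_isGE g i p hi hM h).symm⟩
  have h1 : Subsingleton (((LTX X).flip.obj K).obj M ⟶ L) := ((rhAdj K).homEquiv M L).subsingleton
  let e' : K⟦-i⟧ ≅ ((LTX X).flip.obj K).obj M := (e.app K).symm
  let e'' : (L⟦i⟧)⟦-i⟧ ≅ L := (shiftShiftNeg L i)
  refine ⟨fun f g => (shiftFunctor (DCoh.D X) (-i)).map_injective ?_⟩
  rw [← cancel_mono e''.hom, ← cancel_epi e'.inv]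
  exact Subsingleton.elim _ _

theorem isGE_RH_of_isZero [HasInjectiveResolutions X.Modules] (F G : X.Modules) (p : ℕ)
    (h : ∀ q, q < p → IsZero (((homFunctor F).rightDerived q).obj G)) :
    ((RH (DerivedCategory.Q.obj ((HomologicalComplex.single X.Modules (ComplexShape.up ℤ) 0).obj F))).obj
      (DCoh.inD X G)).IsGE p := by
  rw [DerivedCategory.isGE_iff]
  intro i hi
  rcases lt_or_ge i 0 with h0 | h0
  · have h1 : (DerivedCategory.Q.obj ((HomologicalComplex.single X.Modules (ComplexShape.up ℤ) 0).obj F)).IsLE 0 := by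
      exact ⟨DerivedCategory.TStructure.t.isLE_of_iso
        ((DerivedCategory.singleFunctorIsoCompQ X.Modules 0).app F) 0 |>.le⟩
    have h2 := PerfC.RHomBnd556.isGE_RH
      (DerivedCategory.Q.obj ((HomologicalComplex.single X.Modules (ComplexShape.up ℤ) 0).obj F))
      (DCoh.inD X G) 0 0
    exact (DerivedCategory.isGE_iff _ _).1 h2 i (by lia)
  · obtain ⟨q, rfl⟩ := Int.eq_ofNat_of_zero_le h0
    obtain ⟨e⟩ := Htor.H255.ExtRD.nonempty_ext F G q q rfl
    exact (h q (by lia)).of_iso e

/-- Vanishing of global `Ext` below a degree from the vanishing of the local ones. -/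
theorem subsingleton_ext [HasInjectiveResolutions X.Modules] [HasExt.{w} X.Modules] (F G : X.Modules) (p : ℕ)
    (h : ∀ q, q < p → IsZero (((homFunctor F).rightDerived q).obj G)) (i : ℕ) (hi : i < p) :
    Subsingleton (Abelian.Ext.{w} F G i) := by
  have h1 := subsingleton_hom (isGE_RH_of_isZero F G p h) (i : ℤ) (by lia)
  let e : DCoh.inD X F ≅
      DerivedCategory.Q.obj ((HomologicalComplex.single X.Modules (ComplexShape.up ℤ) 0).obj F) :=
    (DerivedCategory.singleFunctorIsoCompQ X.Modules 0).app F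
  have h2 : Subsingleton (DCoh.inD X F ⟶ (DCoh.inD X G)⟦(i : ℤ)⟧) :=
    ⟨fun f g => by rw [← cancel_epi e.inv]; exact Subsingleton.elim _ _⟩
  exact Abelian.Ext.homEquiv.subsingleton

end K271.ExtGlob
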